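import Cfsg.Agent.H340.Sy.Rows
import Cfsg.Agent.H902.Compare
import Cfsg.Agent.S0821
import Cfsg.Agent.UGT.U2.Rec.Congr
/-!
# Classical groups without orthogonal composition factors in centralizers (helper340)

* `LUS S` : `S` has a linear, unitary or symplectic name (and the right order);
* `ORT S` : `S` has an orthogonal name `Ω_{2m+1}(q)` (`q` odd, `m ≥ 3`), `PΩ^±_{2m}(q)` (`q` odd, `m ≥ 4`);
* `not_both` : not both;
* `ort_pomega` : `PΩ` of a diagonal form of dimension at least `7` over a finite field of odd order is `ORT`;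
* `cf_lus`, `no_orth` : `K = PSL, PSU, PSp` of odd characteristic, `x` an automorphism with `x² = 1` in the derived
  subgroup of `Aut K` (for `PSp` any `x`): the composition factors of `C_K(x)` are `LUS`.
-/

set_option autoImplicit false
set_option linter.unusedSectionVars false

namespace Cfsg.Agent.H340.Sy

open Subgroup Cfsg Cfsg.Agent.OrdDiv Cfsg.Agent.H902 Cfsg.Agent.H902.Names QuadraticMap
open Cfsg.Agent.LieClassical.OrthCore Cfsg.Agent.LieClassical.OrthTrans Cfsg.Agent.LieClassical.OrthSimple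

universe u v

/-- linear, unitary and symplectic names -/
inductive LusName : Grp → Prop
  | psl (n q : ℕ) : LusName (.psl n q)
  | psu (n q : ℕ) : LusName (.psu n q)
  | psp (n q : ℕ) : LusName (.psp n q)

/-- orthogonal names -/
inductive OrtName : Grp → Prop
  | oodd (m q : ℕ) (hm : 3 ≤ m) (hq : Odd q) : OrtName (.oodd m q)
  | oplus (m q : ℕ) (hm : 4 ≤ m) (hq : Odd q) : OrtName (.oplus m q)
  | ominus (m q : ℕ) (hm : 4 ≤ m) (hq : Odd q) : OrtName (.ominus m q)

/-- `S` is linear, unitary or symplectic. -/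
def LUS (S : Type u) [Group S] : Prop := ∃ g, LusName g ∧ OrdDiv.Real g S ∧ N2 g (Nat.card S)

/-- `S` is an orthogonal group of odd characteristic. -/
def ORT (S : Type u) [Group S] : Prop := ∃ g, OrtName g ∧ OrdDiv.Real g S ∧ N2 g (Nat.card S)

theorem real_congr {g : Grp} {S : Type u} {T : Type v} [Group S] [Group T] (e : S ≃* T) (h : OrdDiv.Real g T)
    (hg : LusName g ∨ OrtName g) : OrdDiv.Real g S := by
  rcases hg with hg | hg <;> cases hg
  · obtain ⟨F, _, _, hF, ⟨f⟩⟩ := h; exact ⟨F, _, _, hF, ⟨e.trans f⟩⟩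
  · obtain ⟨F, _, _, hF, ⟨f⟩⟩ := h; exact ⟨F, _, _, hF, ⟨e.trans f⟩⟩
  · obtain ⟨F, _, _, hF, ⟨f⟩⟩ := h; exact ⟨F, _, _, hF, ⟨e.trans f⟩⟩
  · obtain ⟨F, _, _, hF, ⟨f⟩⟩ := h; exact ⟨F, _, _, hF, ⟨e.trans f⟩⟩
  · obtain ⟨F, _, _, hF, ⟨f⟩⟩ := h; exact ⟨F, _, _, hF, ⟨e.trans f⟩⟩
  · obtain ⟨F, _, _, a, b, hF, hab, ⟨f⟩⟩ := h; exact ⟨F, _, _, a, b, hF, hab, ⟨e.trans f⟩⟩

theorem LUS.congr {S : Type u} {T : Type v} [Group S] [Group T] (h : LUS T) (e : S ≃* T) : LUS S := by
  obtain ⟨g, hg, h1, h2⟩ := h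
  exact ⟨g, hg, real_congr e h1 (Or.inl hg), by rwa [Nat.card_congr e.toEquiv]⟩

theorem ORT.congr {S : Type u} {T : Type v} [Group S] [Group T] (h : ORT T) (e : S ≃* T) : ORT S := by
  obtain ⟨g, hg, h1, h2⟩ := h
  exact ⟨g, hg, real_congr e h1 (Or.inr hg), by rwa [Nat.card_congr e.toEquiv]⟩

theorem not_exc_aux {p M d k : ℕ} (hp : p.Prime) (ho : Odd p) (hk : 9 ≤ k) (hd : d ∣ 4) (h : p ^ k ∣ d * M)
    (hM : Exc M) : False := by
  have hp3 : 3 ≤ p := by
    have := hp.two_le
    rcases ho with ⟨j, hj⟩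
    omega
  have hcop : Nat.Coprime (p ^ k) d := by
    apply Nat.Coprime.pow_left
    refine Nat.Coprime.coprime_dvd_right hd ?_
    rw [show (4 : ℕ) = 2 ^ 2 by norm_num]
    exact Nat.Coprime.pow_right _ (Nat.coprime_two_right.2 ho)
  have h1 : p ^ k ∣ M := hcop.dvd_of_dvd_mul_left h
  have h2 : p ^ 9 ∣ M := (pow_dvd_pow p hk).trans h1
  have hM0 : 0 < M := by rcases hM with h | h | h | h | h <;> omega
  have h3 : p ^ 9 ≤ M := Nat.le_of_dvd hM0 h2
  have h4 : p < 4 := by
    by_contra h5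
    push Not at h5
    have h6 : 4 ^ 9 ≤ p ^ 9 := Nat.pow_le_pow_left h5 9
    have h7 : M ≤ 25920 := by rcases hM with h | h | h | h | h <;> omega
    norm_num at h6
    omega
  obtain rfl : p = 3 := by omega
  rcases hM with h | h | h | h | h <;> subst h <;> norm_num at h2

theorem OrtName.not_exc {g : Grp} (hg : OrtName g) {M : ℕ} (h : N2 g M) : ¬ Exc M := by
  intro hM
  have hdd : ∀ (m : ℕ) (q : ℕ), Art.dd (.C m) q ∣ 4 ∧ Art.dd (.D m) q ∣ 4 ∧ Art.dd (.DD m) q ∣ 4 := fun m q =>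
    ⟨(Nat.gcd_dvd_left 2 _).trans (by norm_num), Nat.gcd_dvd_left 4 _, Nat.gcd_dvd_left 4 _⟩
  rcases h with ⟨n, hn, -⟩ | ⟨X, p, f, h1, h2⟩
  · cases hg <;> exact absurd hn (by simp)
  · have hf := h2.hf
    have hpow : ∀ N, 9 ≤ N → 9 ≤ f * N := fun N hN => by nlinarith
    cases h1 <;> cases hg
    · rename_i n hn ho hm hq
      have hpo : Odd p := Nat.Odd.of_mul_left (m := p) (n := p ^ (f - 1)) (by
        rw [← pow_succ', Nat.sub_add_cancel hf]; exact ho)
      have hn2 : 9 ≤ n ^ 2 := by nlinarith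
      refine not_exc_aux h2.hp hpo (hpow (n ^ 2) hn2) (hdd n (p ^ f)).1 (k := f * n ^ 2) ?_ hM
      rw [h2.eq, pow_mul]
      exact Dvd.intro _ rfl
    · rename_i n hm hq
      have hpo : Odd p := Nat.Odd.of_mul_left (m := p) (n := p ^ (f - 1)) (by
        rw [← pow_succ', Nat.sub_add_cancel hf]; exact hq)
      refine not_exc_aux h2.hp hpo (hpow (n * (n - 1)) ?_) (hdd n (p ^ f)).2.1 (k := f * (n * (n - 1))) ?_ hM
      · have : 3 ≤ n - 1 := by omega
        nlinarith
      · rw [h2.eq, pow_mul]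
        exact Dvd.intro _ rfl
    · rename_i n hm hq
      have hpo : Odd p := Nat.Odd.of_mul_left (m := p) (n := p ^ (f - 1)) (by
        rw [← pow_succ', Nat.sub_add_cancel hf]; exact hq)
      refine not_exc_aux h2.hp hpo (hpow (n * (n - 1)) ?_) (hdd n (p ^ f)).2.2 (k := f * (n * (n - 1))) ?_ hM
      · have : 3 ≤ n - 1 := by omega
        nlinarith
      · rw [h2.eq, pow_mul]
        exact Dvd.intro _ rfl

/-- **A linear, unitary or symplectic group is not an orthogonal group.** -/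
theorem not_both {S : Type u} [Group S] (h : LUS S) (h' : ORT S) : False := by
  obtain ⟨g, hg, h1, h2⟩ := h
  obtain ⟨g', hg', h1', h2'⟩ := h'
  rcases n2_unique h2 h2' (hg'.not_exc h2') with rfl | ⟨m, q, hm, hq, rfl, rfl⟩ | ⟨m, q, hm, hq, rfl, rfl⟩
  · cases hg <;> cases hg'
  · obtain ⟨F, _, _, hF, ⟨e⟩⟩ := h1
    obtain ⟨F', _, _, hF', ⟨e'⟩⟩ := h1'
    obtain ⟨f⟩ := Cfsg.Agent.UGT.U2.Rec.Congr.nonempty_POmegaOdd (FiniteField.ringEquivOfCardEq (hF'.trans hF.symm)) m
    exact (S0821.result (F := F) (by rw [hF]; exact hq) m hm).false ((e.symm.trans e').trans f)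
  · cases hg

section Base

variable {r : ℕ}

theorem base_lus (hr : r.Prime) (hr2 : r ≠ 2) : BaseS.{u} r (fun S _ => LUS S) where
  psl F _ _ _ n hs S _ := by
    rintro ⟨e⟩
    have := Fintype.ofFinite F
    have hn : 2 ≤ n := by
      by_contra hn
      have : Subsingleton (Fin n) := by
        have : n = 0 ∨ n = 1 := by omega
        rcases this with rfl | rfl <;> infer_instance
      have : Subsingleton (Matrix.SpecialLinearGroup (Fin n) F) := inferInstance
      have : Subsingleton (Matrix.ProjectiveSpecialLinearGroup (Fin n) F) :=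
        (QuotientGroup.mk'_surjective _).subsingleton
      exact not_nontrivial _ hs.toNontrivial
    obtain ⟨p, f, hp, hf, hF⟩ := exists_pp F
    refine LUS.congr ⟨.psl n (p ^ f), .psl _ _, ⟨F, inferInstance, inferInstance, hF, ⟨MulEquiv.refl _⟩⟩,
      Or.inr ⟨_, p, f, .psl n p f, psl_real hp hf hF hn ?_⟩⟩ e
    rintro rfl
    by_contra h4
    exact not_simple_sl_two_three (F := F) (by rwa [Nat.card_eq_fintype_card, hF]) hs
  psu F _ _ _ n q hF hn hs S _ := by
    rintro ⟨e⟩
    have h1 := card_ge_of_odd (F := F) hr hr2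
    have hqp : IsPrimePow q := by
      have h2 : IsPrimePow (q ^ 2) := hF ▸ Fintype.isPrimePow_card_of_field
      exact (isPrimePow_pow_iff (by norm_num)).1 h2
    obtain ⟨p, f, hp, hf, rfl⟩ := (isPrimePow_nat_iff _).1 hqp
    refine LUS.congr ⟨.psu n (p ^ f), .psu _ _, ⟨F, inferInstance, inferInstance, hF, ⟨MulEquiv.refl _⟩⟩,
      Or.inr ⟨_, p, f, .psu n p f, psu_real hp hf hF hn ?_⟩⟩ e
    rintro ⟨-, h⟩
    rw [hF, h] at h1
    exact absurd h1.1 (by decide)
  psp F _ _ _ m hm hs S _ := by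
    rintro ⟨e⟩
    have := Fintype.ofFinite F
    have h1 := card_ge_of_odd (F := F) hr hr2
    obtain ⟨p, f, hp, hf, hF⟩ := exists_pp F
    exact LUS.congr ⟨.psp m (p ^ f), .psp _ _, ⟨F, inferInstance, inferInstance, hF, ⟨MulEquiv.refl _⟩⟩,
      Or.inr ⟨_, p, f, .psp m p f, psp_real hp hf hF hm fun _ => hF ▸ h1.2⟩⟩ e
  alt h := absurd h hr2

/-- `PΩ` of dimension at least seven over a finite field of odd order. -/
theorem ort_of_E {F V : Type} [Field F] [Finite F] (ho : Odd (Nat.card F)) [AddCommGroup V] [Module F V]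
    [Module.Finite F V] (Q : QuadraticForm F V) (hQ : Nondeg Q) (hd : 7 ≤ Module.finrank F V) :
    ORT (E Q ⧸ center ↥(E Q)) := by
  have := Fintype.ofFinite F
  obtain ⟨p, f, hp, hf, hF⟩ := exists_pp F
  rw [Nat.card_eq_fintype_card, hF] at ho
  have hG := LieClassical.OrthFinite.good_of_finite hQ (by omega)
  rcases GenOrth.normal_form (Module.finrank F V) hQ rfl with ⟨k, hk, hS⟩ | ⟨k, hk, hS⟩ | ⟨k, hk, a, b, hab, hS⟩
  · obtain ⟨e⟩ := nonempty_E_equiv hG hS
    exact ORT.congr ⟨.oodd k (p ^ f), .oodd _ _ (by omega) ho, ⟨F, inferInstance, inferInstance, hF, ⟨MulEquiv.refl _⟩⟩,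
      Or.inr ⟨_, p, f, .oodd k p f (by omega) ho, oodd_real hp hf hF (by omega) ho⟩⟩ e
  · obtain ⟨e⟩ := nonempty_E_equiv hG hS
    exact ORT.congr ⟨.oplus k (p ^ f), .oplus _ _ (by omega) ho, ⟨F, inferInstance, inferInstance, hF, ⟨MulEquiv.refl _⟩⟩,
      Or.inr ⟨_, p, f, .oplus k p f, oplus_real hp hf hF (by omega)⟩⟩ e
  · obtain ⟨e⟩ := nonempty_E_equiv hG hS
    exact ORT.congr ⟨.ominus (k + 1) (p ^ f), .ominus _ _ (by omega) ho,
      ⟨F, inferInstance, inferInstance, a, b, hF, hab, ⟨MulEquiv.refl _⟩⟩,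
      Or.inr ⟨_, p, f, .ominus (k + 1) p f, ominus_real hp hf hF (by omega) hab⟩⟩ e

/-- `PΩ` of a diagonal form. -/
theorem ort_pomega {F : Type} [Field F] [Fintype F] [DecidableEq F] (ho : Odd (Fintype.card F)) {n : ℕ}
    (hn : 7 ≤ n) (c : Fin n → F) (hc : ∀ i, c i ≠ 0) : ORT (POmega F (fun v : Fin n → F => ∑ i, c i * v i ^ 2)) := by
  have h2 : (2 : F) ≠ 0 := by
    intro h
    have h3 : ringChar F = 2 := by
      have h4 : ringChar F ∣ 2 := ringChar.dvd (by exact_mod_cast h)
      rcases (Nat.dvd_prime Nat.prime_two).1 h4 with h5 | h5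
      · exact absurd h5 CharP.ringChar_ne_one
      · exact h5
    have h4 := FiniteField.even_card_of_char_two h3
    rcases ho with ⟨k, hk⟩
    omega
  let Q : QuadraticForm F (Fin n → F) := QuadraticMap.weightedSumSquares F c
  have hQ : ∀ v, Q v = ∑ i, c i * v i ^ 2 := fun v => by
    simp only [Q, QuadraticMap.weightedSumSquares_apply, smul_eq_mul, pow_two]
  have hpol : ∀ x y, QuadraticMap.polar Q x y = ∑ i, 2 * (c i * (x i * y i)) := by
    intro x y
    rw [QuadraticMap.polar, hQ, hQ, hQ, ← Finset.sum_sub_distrib, ← Finset.sum_sub_distrib]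
    refine Finset.sum_congr rfl fun i _ => ?_
    rw [Pi.add_apply]
    ring
  have hnd : Nondeg Q := by
    intro x hx
    funext j
    have h3 := hx (Pi.single j 1)
    rw [hpol, Finset.sum_eq_single j (fun i _ hij => by rw [Pi.single_eq_of_ne hij]; ring)
      (fun h => absurd (Finset.mem_univ j) h), Pi.single_eq_same, mul_one] at h3
    have h4 := (mul_eq_zero.1 h3).resolve_left h2
    exact (mul_eq_zero.1 h4).resolve_left (hc j)
  have hd : Module.finrank F (Fin n → F) = n := by rw [Module.finrank_fintype_fun_eq_card, Fintype.card_fin]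
  have h3 := ort_of_E (by rw [Nat.card_eq_fintype_card]; exact ho) Q hnd (by rw [hd]; exact hn)
  have hG := LieClassical.OrthFinite.good_of_finite hnd (by rw [hd]; omega)
  obtain ⟨e⟩ := nonempty_E_equiv (q := fun v : Fin n → F => ∑ i, c i * v i ^ 2) hG
    ⟨1, one_ne_zero, LinearEquiv.refl F _, fun x => by rw [one_mul, LinearEquiv.refl_apply, hQ]⟩
  exact h3.congr e.symm

end Base

section Final

variable {r : ℕ}

/-- The centralizers of all automorphisms of square one in the derived group of `Aut X` satisfy `CF P`. -/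
def InvCF' (P : ∀ (S : Type u) [Group S], Prop) (X : Type v) [Group X] : Prop :=
  ∀ x : MulAut X, x * x = 1 → x ∈ commutator (MulAut X) → CF P ↥(fixedSubgroup x)

theorem InvCF'.congr {P : ∀ (S : Type u) [Group S], Prop} {X Y : Type*} [Group X] [Group Y] (h : InvCF' P X)
    (e : X ≃* Y) : InvCF' P Y := by
  intro x hx hc
  let φ : MulAut Y ≃* MulAut X := MulAut.congr e.symm
  let x' : MulAut X := φ x
  have hx' : x' * x' = 1 := by
    rw [← map_mul, hx, map_one]
  have hc' : x' ∈ commutator (MulAut X) := by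
    have h4 : (commutator (MulAut Y)).map φ.toMonoidHom = commutator (MulAut X) := by
      rw [commutator_def, commutator_def, Subgroup.map_commutator,
        Subgroup.map_top_of_surjective _ φ.surjective]
    rw [← h4]
    exact ⟨x, hc, rfl⟩
  have h1 := h x' hx' hc'
  have h2 : ∀ k, x' k = e.symm (x (e k)) := fun _ => rfl
  let ε : ↥(fixedSubgroup x') ≃* ↥(fixedSubgroup x) :=
    { toFun := fun k => ⟨e k, by
        have h3 : x' k.1 = k.1 := k.2
        rw [h2] at h3
        change x (e k) = e k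
        have h4 := congrArg e h3
        rwa [e.apply_symm_apply] at h4⟩
      invFun := fun k => ⟨e.symm k, by
        have h3 : x k.1 = k.1 := k.2
        change x' (e.symm k) = e.symm k
        rw [h2, e.apply_symm_apply, h3]⟩
      left_inv := fun k => Subtype.ext (e.symm_apply_apply _)
      right_inv := fun k => Subtype.ext (e.apply_symm_apply _)
      map_mul' := fun a b => Subtype.ext (map_mul e _ _) }
  exact h1.congr ε

/-- **Linear, unitary and symplectic groups of odd characteristic**: the nonabelian composition factors of the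
centralizer of an automorphism of square one in the derived group of the automorphism group are linear, unitary or
symplectic. -/
theorem cf_lus (hr : r.Prime) (hr2 : r ≠ 2) {X : Type v} [Group X]
    (hX : IsPSLChar r X ∨ IsPSpChar r X ∨ IsPSUChar r X) : InvCF'.{u} (fun S _ => LUS S) X := by
  rcases hX with h | h | h
  · obtain ⟨F, _, _, _, n, h1, h2, ⟨e⟩⟩ := h
    refine InvCF'.congr ?_ e.symm
    exact fun α h hc => cf_psl hr hr2 (base_lus hr hr2) h1 α h hc
  · obtain ⟨F, _, _, _, m, h1, h2, ⟨e⟩⟩ := h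
    refine InvCF'.congr ?_ e.symm
    exact fun α h _ => cf_psp hr hr2 (base_lus hr hr2) h1 α h
  · obtain ⟨F, _, _, _, n, q, h1, h2, h3, ⟨e⟩⟩ := h
    refine InvCF'.congr ?_ e.symm
    exact fun α h hc => cf_psu hr hr2 (base_lus hr hr2) h1 h2 h3 α h hc

/-- **No orthogonal components.** -/
theorem no_orth (hr : r.Prime) (hr2 : r ≠ 2) {X : Type v} [Group X]
    (hX : IsPSLChar r X ∨ IsPSpChar r X ∨ IsPSUChar r X) {x : MulAut X} (hx : x * x = 1)
    (hc : x ∈ commutator (MulAut X)) {L : Subgroup ↥(fixedSubgroup x)} (hL : L.IsSubnormal)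
    (hs : IsSimpleGroup (↥L ⧸ center ↥L)) (hp : commutator ↥L = ⊤) (ho : ORT (↥L ⧸ center ↥L)) : False :=
  not_both ((cf_lus hr hr2 hX x hx hc).component hL hs hp) ho

end Final

end Cfsg.Agent.H340.Sy
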