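import Cfsg.Agent.H340.RingInv
/-!
# Composition factors: linear, unitary and symplectic groups only (helper340)

`BaseS r P` : the linear, unitary and symplectic simple groups in characteristic `r` satisfy `P`
(`BaseU`: only linear and unitary, `BaseL`: only linear).
-/

set_option autoImplicit false
set_option linter.unusedSectionVars false

namespace Cfsg.Agent.H340.Sy

open Subgroup Cfsg Cfsg.Agent.BpLin QuadraticMap
open Cfsg.Agent.LieClassical.OrthCore Cfsg.Agent.LieClassical.OrthTrans Cfsg.Agent.LieClassical.OrthSimple
open Cfsg.Agent.ClassicalGeometry.SympBasic Cfsg.Agent.ClassicalGeometry.SympAutSemi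
  Cfsg.Agent.ClassicalGeometry.SympIso
open scoped MatrixGroups Matrix commutatorElement

universe u

/-- The linear, unitary and symplectic simple groups in characteristic `r` satisfy `P`. -/
structure BaseS (r : ℕ) (P : ∀ (S : Type u) [Group S], Prop) : Prop where
  psl : ∀ (F : Type) [Field F] [Finite F] [CharP F r] (n : ℕ),
    IsSimpleGroup (Matrix.ProjectiveSpecialLinearGroup (Fin n) F) → ∀ (S : Type u) [Group S],
    Nonempty (S ≃* Matrix.ProjectiveSpecialLinearGroup (Fin n) F) → P S
  psu : ∀ (F : Type) [Field F] [Fintype F] [CharP F r] (n q : ℕ), Fintype.card F = q ^ 2 → 3 ≤ n →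
    IsSimpleGroup (PSU n F q) → ∀ (S : Type u) [Group S], Nonempty (S ≃* PSU n F q) → P S
  psp : ∀ (F : Type) [Field F] [Finite F] [CharP F r] (m : ℕ), 2 ≤ m → IsSimpleGroup (PSp m F) →
    ∀ (S : Type u) [Group S], Nonempty (S ≃* PSp m F) → P S
  alt : r = 2 → ∀ (S : Type u) [Group S], Nonempty (S ≃* alternatingGroup (Fin 6)) → P S

variable {r : ℕ} {P : ∀ (S : Type u) [Group S], Prop}

section Linear

variable {F : Type} [Field F] [Finite F] [CharP F r]

theorem cf_sl (hP : BaseS r P) (n : ℕ) : CF P (Matrix.SpecialLinearGroup (Fin n) F) := by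
  rcases Nat.lt_or_ge n 2 with hn | hn
  · apply CF.of_solvable
    have : Subsingleton (Fin n) := by
      have : n = 0 ∨ n = 1 := by omega
      rcases this with rfl | rfl <;> infer_instance
    have : Subsingleton (Matrix.SpecialLinearGroup (Fin n) F) := inferInstance
    infer_instance
  · by_cases hs : IsSimpleGroup (Matrix.ProjectiveSpecialLinearGroup (Fin n) F)
    · exact CF.of_central (Z := center _) le_rfl (CF.of_simple (hP.psl F n hs))
    · rcases Nat.eq_or_lt_of_le hn with rfl | hn
      · by_cases h : 4 ≤ Nat.card F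
        · exact absurd (Matrix.ProjectiveSpecialLinearGroup.rank_two_simple h) hs
        · exact CF.of_solvable (isSolvable_sl_two h)
      · exact absurd (LieClassical.SLGen.psl_isSimpleGroup (by rw [Fintype.card_fin]; exact hn)) hs

theorem cf_gl (hP : BaseS r P) (n : ℕ) : CF P (GL (Fin n) F) := by
  refine CF.of_hom_comm (Matrix.GeneralLinearGroup.det (n := Fin n) (R := F)) ?_
  rw [← range_toGL n]
  exact (cf_sl hP n).congr (MonoidHom.ofInjective (Matrix.SpecialLinearGroup.toGL_injective))

end Linear

section Unitary

variable {F : Type} [Field F] [Fintype F] [CharP F r] {q : ℕ}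

theorem cf_su (hP : BaseS r P) (hF : Fintype.card F = q ^ 2) (n : ℕ) : CF P ↥(SU n F q) := by
  rcases Nat.lt_or_ge n 2 with hn | hn
  · apply CF.of_solvable
    have : Subsingleton (Fin n) := by
      have : n = 0 ∨ n = 1 := by omega
      rcases this with rfl | rfl <;> infer_instance
    have : Subsingleton (Matrix.SpecialLinearGroup (Fin n) F) := inferInstance
    have : Subsingleton ↥(SU n F q) := inferInstance
    infer_instance
  · rcases Nat.eq_or_lt_of_le hn with rfl | hn
    · obtain ⟨_, _, _, _, θ, -⟩ := Phan.exists_model hF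
      exact (cf_sl (F := Phan.fixedField hF) hP 2).congr θ
    · by_cases h : n = 3 ∧ q = 2
      · obtain ⟨rfl, rfl⟩ := h
        have h1 := (S0282.result (F := F) hF).2
        exact CF.of_central (Z := center _) le_rfl (CF.of_solvable h1)
      · have h1 := S0283.result hF n hn h
        exact CF.of_central (Z := center _) le_rfl (CF.of_simple (hP.psu F n q hF hn h1))

theorem cf_gu (hP : BaseS r P) (hF : Fintype.card F = q ^ 2) (n : ℕ) : CF P ↥(GU n F q) := by
  refine CF.of_hom_comm ((Matrix.GeneralLinearGroup.det (n := Fin n) (R := F)).comp (GU n F q).subtype) ?_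
  have hinj : Function.Injective (suToGU n F q) := by
    intro a b hab
    apply Subtype.ext
    apply Subtype.ext
    rw [← coe_suToGU, ← coe_suToGU, hab]
  have hr : (suToGU n F q).range =
      ((Matrix.GeneralLinearGroup.det (n := Fin n) (R := F)).comp (GU n F q).subtype).ker := by
    ext A
    constructor
    · rintro ⟨g, rfl⟩
      rw [MonoidHom.mem_ker]
      apply Units.ext
      change Matrix.det ((suToGU n F q g : GL (Fin n) F) : Matrix (Fin n) (Fin n) F) = 1
      rw [coe_suToGU]
      exact g.1.2
    · intro h
      rw [MonoidHom.mem_ker] at h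
      have h1 : Matrix.det ((A : GL (Fin n) F) : Matrix (Fin n) (Fin n) F) = 1 := congrArg Units.val h
      refine ⟨⟨⟨((A : GL (Fin n) F) : Matrix (Fin n) (Fin n) F), h1⟩, ?_⟩, ?_⟩
      · exact A.2
      · apply Subtype.ext
        apply Units.ext
        rw [coe_suToGU]
  rw [← hr]
  exact (cf_su hP hF n).congr (MonoidHom.ofInjective hinj)

end Unitary

section Symp

variable {F : Type} [Field F] [Finite F] [CharP F r]

theorem cf_sp_one (hP : BaseS r P) : CF P ↥(Matrix.symplecticGroup (Fin 1) F) := by
  let e : (Fin 1 ⊕ Fin 1) ≃ Fin 2 := finSumFinEquiv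
  let g : ↥(Matrix.symplecticGroup (Fin 1) F) →* Matrix.SpecialLinearGroup (Fin 2) F :=
    { toFun := fun A => ⟨Matrix.reindex e e A.1, by
        rw [Matrix.det_reindex_self]; exact (S0244.result A.1).1 A.2⟩
      map_one' := by
        apply Subtype.ext
        change Matrix.reindex e e 1 = 1
        simp
      map_mul' := fun A B => by
        apply Subtype.ext
        change Matrix.reindex e e (A.1 * B.1) = Matrix.reindex e e A.1 * Matrix.reindex e e B.1
        simp [Matrix.submatrix_mul_equiv] }
  have hg : Function.Bijective g := by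
    constructor
    · intro A B h
      apply Subtype.ext
      exact (Matrix.reindex e e).injective (congrArg Subtype.val h)
    · intro B
      refine ⟨⟨(Matrix.reindex e e).symm B.1, (S0244.result _).2 ?_⟩, ?_⟩
      · rw [Matrix.reindex_symm, Matrix.det_reindex_self]; exact B.2
      · apply Subtype.ext
        exact (Matrix.reindex e e).apply_symm_apply B.1
  exact (cf_sl (F := F) hP 2).congr (MulEquiv.ofBijective g hg).symm

theorem cf_symplectic (hP : BaseS r P) (m : ℕ) : CF P ↥(Matrix.symplecticGroup (Fin m) F) := by
  have := Fintype.ofFinite F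
  rcases Nat.lt_or_ge m 2 with hm | hm
  · interval_cases m
    · apply CF.of_solvable
      have : Subsingleton (Matrix (Fin 0 ⊕ Fin 0) (Fin 0 ⊕ Fin 0) F) := inferInstance
      have : Subsingleton ↥(Matrix.symplecticGroup (Fin 0) F) := inferInstance
      infer_instance
    · exact cf_sp_one hP
  by_cases hs : IsSimpleGroup (PSp m F)
  · exact CF.of_central (Z := center _) le_rfl (CF.of_simple (hP.psp F m hm hs))
  -- only `Sp_4(2)` remains
  by_cases h : 3 ≤ m ∨ (m = 2 ∧ 3 ≤ Fintype.card F)
  · exfalso
    apply hs
    have hperf := LieClassical.SympPerfect.commutator_eq_top (m := m) (F := F) (by tauto)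
    have hgen : transvGroup m F = ⊤ := Cfsg.Agent.S0765.result m
    refine @IsSimpleGroup.mk _ _ ?_ ?_
    · by_contra hsub
      rw [not_nontrivial_iff_subsingleton] at hsub
      have h1 : center ↥(Matrix.symplecticGroup (Fin m) F) = ⊤ := by
        rw [← QuotientGroup.subsingleton_iff]
        exact hsub
      have h2 : commutator ↥(Matrix.symplecticGroup (Fin m) F) = ⊥ := by
        rw [commutator_def, Subgroup.commutator_eq_bot_iff_le_centralizer]
        intro x _
        have hx : x ∈ center ↥(Matrix.symplecticGroup (Fin m) F) := by rw [h1]; exact mem_top x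
        exact center_le_centralizer _ hx
      rw [hperf] at h2
      have h3 := LieClassical.SympCount.card_symplecticGroup (F := F) m
      have h4 : Nat.card ↥(Matrix.symplecticGroup (Fin m) F) = 1 := by
        rw [← Nat.card_congr (Subgroup.topEquiv (G := ↥(Matrix.symplecticGroup (Fin m) F))).toEquiv, h2]
        exact Subgroup.card_bot
      rw [h4] at h3
      have h5 : (Fintype.card F) ^ (m ^ 2) ∣ 1 := by rw [h3]; exact Dvd.intro _ rfl
      have h6 : 1 < Fintype.card F := Fintype.one_lt_card
      have h7 : (Fintype.card F) ^ (m ^ 2) = 1 := Nat.dvd_one.1 h5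
      have h8 : 1 < (Fintype.card F) ^ (m ^ 2) := Nat.one_lt_pow (by positivity) h6
      omega
    · intro N hN
      have h1 : (N.comap (QuotientGroup.mk' (center ↥(Matrix.symplecticGroup (Fin m) F)))).Normal := hN.comap _
      by_cases hle : N.comap (QuotientGroup.mk' (center ↥(Matrix.symplecticGroup (Fin m) F))) ≤ center _
      · left
        rw [eq_bot_iff]
        intro x hx
        obtain ⟨y, rfl⟩ := QuotientGroup.mk_surjective x
        exact (QuotientGroup.eq_one_iff y).2 (hle hx)
      · right
        rw [eq_top_iff]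
        intro x _
        obtain ⟨y, rfl⟩ := QuotientGroup.mk_surjective x
        have h2 := LieClassical.SympSimple.commutator_le_of_not_le_center hgen _ hle
        rw [hperf] at h2
        exact h2 (mem_top y)
  push Not at h
  have hq : 2 ≤ Fintype.card F := Fintype.one_lt_card
  have hm2 : m = 2 := by omega
  subst hm2
  have hq2 : Fintype.card F = 2 := by have := h.2 rfl; omega
  have hr : r = 2 := by
    have h1 : CharP F 2 := charP_of_card_eq_prime hq2
    exact CharP.eq F ‹CharP F r› h1
  obtain ⟨e⟩ := LieClassical.SpFourTwo.nonempty_equiv_perm hq2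
  refine CF.congr ?_ e.symm
  have hs : IsSimpleGroup (alternatingGroup (Fin 6)) := alternatingGroup.isSimpleGroup (by simp)
  refine CF.of_solvable_quotient (N := alternatingGroup (Fin 6)) (CF.of_simple (hP.alt hr)) ?_
  have hc : (alternatingGroup (Fin 6)).index = 2 := alternatingGroup.index_eq_two
  have : IsCyclic (Equiv.Perm (Fin 6) ⧸ alternatingGroup (Fin 6)) := by
    have : Fact (Nat.Prime 2) := ⟨Nat.prime_two⟩
    exact isCyclic_of_prime_card (p := 2) hc
  infer_instance

end Symp

section Bilin

variable {F V : Type} [Field F] [Finite F] [CharP F r] [AddCommGroup V] [Module F V]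
  {B : LinearMap.BilinForm F V}

theorem cf_bilin (hP : BaseS r P) [Module.Finite F V] (hA : B.IsAlt)
    (hnd : ∀ u, (∀ v, B u v = 0) → u = 0) : CF P ↥(BpCl.Iso (fun u v => B u v)) := by
  obtain ⟨k, e, he⟩ := BpCl.exists_coords hA hnd
  obtain ⟨f⟩ := BpCl.nonempty_symp e he
  exact (cf_symplectic hP k).congr f

end Bilin

end Cfsg.Agent.H340.Sy
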