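import Cfsg.Agent.H340.SemiUnit
import Cfsg.Agent.H340.Sy.Base
/-!
# The unitary group of a finite semisimple ring with involution without orthogonal part (helper340)

`NoOrth s` : no nonzero idempotent `e = s e` such that `s` is trivial on `e E e` (the simple factors of the second kind
and of symplectic type only). `cf_unitary` : then the nonabelian composition factors of `U s` are linear, unitary or
symplectic.
-/

set_option autoImplicit false
set_option linter.unusedSectionVars false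

namespace Cfsg.Agent.H340.Sy

open Subgroup Cfsg Cfsg.Agent.BpLin

universe u

/-- No nonzero symmetric idempotent `e` with `s` trivial on `e E e`. -/
def NoOrth {E : Type*} [Ring E] (s : RInv E) : Prop :=
  ∀ e : E, e * e = e → s e = e → (∀ a, s (e * a * e) = e * a * e) → e = 0

theorem NoOrth.congr {E E' : Type*} [Ring E] [Ring E'] {s : RInv E} (h : NoOrth s) (f : E ≃+* E') :
    NoOrth (s.congr f) := by
  intro e he hs ha
  have h1 : ∀ x, (s.congr f) x = f (s (f.symm x)) := fun _ => rfl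
  have h2 : f.symm e = 0 := by
    refine h _ (by rw [← map_mul, he]) ?_ fun a => ?_
    · rw [h1] at hs
      apply f.injective
      rw [hs, f.apply_symm_apply]
    · have h3 := ha (f a)
      rw [h1] at h3
      apply f.injective
      rw [map_mul f.symm, map_mul f.symm, f.symm_apply_apply] at h3
      rw [h3, map_mul, map_mul, f.apply_symm_apply]
  rw [← f.apply_symm_apply e, h2, map_zero]

theorem NoOrth.factor {ι : Type*} [Fintype ι] [DecidableEq ι] {R : ι → Type*} [∀ i, Ring (R i)]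
    {s : RInv (∀ i, R i)} (h : NoOrth s) (i : ι) (hi : s (Pi.single i 1) = Pi.single i 1) :
    NoOrth (s.factor i hi) := by
  intro e he hs ha
  have h1 : ∀ x, (s.factor i hi) x = s (Pi.single i x) i := fun _ => rfl
  have h2 : (Pi.single i e : ∀ i, R i) = 0 := by
    refine h _ (by rw [← Pi.single_mul, he]) ?_ fun a => ?_
    · rw [single_of_fix s hi, ← h1, hs]
    · have h3 : (Pi.single i e : ∀ i, R i) * a * Pi.single i e = Pi.single i (e * a i * e) := by
        funext k
        by_cases hk : k = i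
        · subst hk; simp
        · simp [Pi.single_eq_of_ne hk]
      rw [h3, single_of_fix s hi, ← h1, ha]
  have h3 := congrFun h2 i
  rwa [Pi.single_eq_same] at h3

/-- A central element moved by a unit. -/
theorem noOrth_of_center {E : Type*} [Ring E] (s : RInv E) {z : E} (hz : ∀ a, z * a = a * z)
    (hu : IsUnit (s z - z)) : NoOrth s := by
  intro e he hs ha
  obtain ⟨u, hu⟩ := hu
  have h1 := ha z
  have hsz : ∀ a, s z * a = a * s z := by
    intro a
    have := congrArg s (hz (s a))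
    rw [s.mul, s.mul, s.inv] at this
    exact this.symm
  rw [s.mul, s.mul, hs, ← mul_assoc, ← hsz, ← hz, mul_assoc, mul_assoc, he] at h1
  have h2 : (u : E) * e = 0 := by rw [hu, sub_mul, h1, sub_self]
  have h3 := congrArg (fun x => ((u⁻¹ : Eˣ) : E) * x) h2
  simpa using h3

section Matrix

open Matrix
open Cfsg.Agent.ClassicalGeometry.InvolutiveNorm Cfsg.Agent.ClassicalGeometry.HermOrthonormal

variable {R : ∀ (S : Type u) [Group S], Prop}
variable {D : Type} [Field D] {d : ℕ} [NeZero d] (s : RInv (Matrix (Fin d) (Fin d) D))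

/-- An involution `A ↦ P Aᵀ P⁻¹` with `P` symmetric has a symmetric idempotent of rank one. -/
theorem not_symm_of_noOrth (h2 : (2 : D) ≠ 0)
    (hs : ∀ c, s (Matrix.scalar (Fin d) c) = Matrix.scalar (Fin d) c) (hno : NoOrth s)
    {P : GL (Fin d) D}
    (hP : ∀ A, s A = (P : Matrix (Fin d) (Fin d) D) * Aᵀ * ((P⁻¹ : GL (Fin d) D) : Matrix (Fin d) (Fin d) D)) :
    ¬ (P : Matrix (Fin d) (Fin d) D)ᵀ = P := by
  intro hsym
  -- a vector which is not isotropic
  obtain ⟨x, hx⟩ : ∃ x : Fin d → D, x ⬝ᵥ ((P : Matrix (Fin d) (Fin d) D) *ᵥ x) ≠ 0 := by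
    by_contra hcon
    push Not at hcon
    have h3 : ∀ x y : Fin d → D, x ⬝ᵥ ((P : Matrix (Fin d) (Fin d) D) *ᵥ y) = 0 := by
      intro x y
      have h4 := hcon (x + y)
      have h5 : y ⬝ᵥ ((P : Matrix (Fin d) (Fin d) D) *ᵥ x) = x ⬝ᵥ ((P : Matrix (Fin d) (Fin d) D) *ᵥ y) := by
        rw [Matrix.dotProduct_mulVec, ← Matrix.mulVec_transpose, hsym, dotProduct_comm]
      rw [Matrix.mulVec_add, dotProduct_add, add_dotProduct, add_dotProduct, hcon x, hcon y, h5] at h4
      have h6 : 2 * (x ⬝ᵥ ((P : Matrix (Fin d) (Fin d) D) *ᵥ y)) = 0 := by linear_combination h4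
      exact (mul_eq_zero.1 h6).resolve_left h2
    have h4 : (P : Matrix (Fin d) (Fin d) D) = 0 := by
      ext i j
      have h5 := h3 (Pi.single i 1) (Pi.single j 1)
      rw [Matrix.mulVec_single_one, single_dotProduct, one_mul] at h5
      exact h5
    have h5 : (P : Matrix (Fin d) (Fin d) D) * ((P⁻¹ : GL (Fin d) D) : Matrix (Fin d) (Fin d) D) = 1 := P.mul_inv
    rw [h4, zero_mul] at h5
    exact zero_ne_one h5
  set M := (P : Matrix (Fin d) (Fin d) D) with hM
  set M' := ((P⁻¹ : GL (Fin d) D) : Matrix (Fin d) (Fin d) D) with hM'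
  have hMM' : M * M' = 1 := P.mul_inv
  set c := x ⬝ᵥ (M *ᵥ x) with hc
  let X : Matrix (Fin d) (Fin d) D := Matrix.vecMulVec x x
  have hXT : Xᵀ = X := by
    ext i j
    simp only [X, Matrix.transpose_apply, Matrix.vecMulVec_apply, mul_comm]
  -- `X A X = (x A x) X`
  have hXX : ∀ A : Matrix (Fin d) (Fin d) D, X * A * X = (x ⬝ᵥ (A *ᵥ x)) • X := by
    intro A
    simp only [X]
    rw [Matrix.vecMulVec_mul, Matrix.vecMulVec_mul_vecMulVec, ← Matrix.dotProduct_mulVec]
    ext i j
    simp only [Matrix.vecMulVec_apply, Matrix.smul_apply, Pi.smul_apply, smul_eq_mul]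
    ring
  let e : Matrix (Fin d) (Fin d) D := c⁻¹ • (M * X)
  have he : e * e = e := by
    have h3 : M * X * (M * X) = c • (M * X) := by
      rw [mul_assoc, ← mul_assoc X, hXX, Matrix.mul_smul]
    simp only [e]
    rw [Matrix.smul_mul, Matrix.mul_smul, h3, smul_smul, smul_smul]
    congr 1
    field_simp
  have hse : s e = e := by
    simp only [e]
    rw [hP, Matrix.transpose_smul, Matrix.transpose_mul, hXT, hsym, Matrix.mul_smul, Matrix.smul_mul]
    congr 1
    rw [mul_assoc, mul_assoc, hMM', mul_one]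
  have hea : ∀ a, s (e * a * e) = e * a * e := by
    intro a
    have h3 : e * a * e = Matrix.scalar (Fin d) (c⁻¹ * (x ⬝ᵥ ((a * M) *ᵥ x))) * e := by
      have h4 : M * X * a * (M * X) = (x ⬝ᵥ ((a * M) *ᵥ x)) • (M * X) := by
        rw [show M * X * a * (M * X) = M * (X * (a * M) * X) by simp only [mul_assoc], hXX, Matrix.mul_smul]
      simp only [e]
      rw [Matrix.smul_mul, Matrix.smul_mul, Matrix.mul_smul, h4, Matrix.scalar_apply,
        ← Matrix.smul_one_eq_diagonal, Matrix.smul_mul, one_mul, smul_smul, smul_smul, smul_smul]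
      congr 1
      ring
    rw [h3, s.mul, hse, hs]
    exact (Matrix.scalar_commute _ (fun r' => Commute.all _ _) e).symm.eq
  have h0 := hno e he hse hea
  have h3 : M * X = 0 := by
    have h4 := congrArg (fun A : Matrix (Fin d) (Fin d) D => c • A) h0
    simp only [e] at h4
    rwa [smul_smul, mul_inv_cancel₀ hx, one_smul, smul_zero] at h4
  have h4 : X = 0 := by
    have h5 : M' * M = 1 := P.inv_mul
    rw [← one_mul X, ← h5, mul_assoc, h3, mul_zero]
  apply hx
  have hx0 : x = 0 := by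
    funext i
    have h5 := congrFun (congrFun h4 i) i
    simp only [X, Matrix.vecMulVec_apply, Matrix.zero_apply] at h5
    exact mul_self_eq_zero.1 h5
  rw [hc, hx0, zero_dotProduct]

theorem cf_unitary_second [Fintype D] {r : ℕ} [CharP D r] (hB : BaseS r R)
    (h2 : ∃ z ∈ Subring.center (Matrix (Fin d) (Fin d) D), s z ≠ z) : CF R ↥s.U := by
  obtain ⟨σ, hσ2, hs⟩ := exists_sigma s
  have hσ : σ ≠ RingHom.id D := by
    rintro rfl
    obtain ⟨z, hz, hz2⟩ := h2
    obtain ⟨c, rfl⟩ := exists_scalar hz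
    exact hz2 (hs c)
  obtain ⟨P, hPs, hP⟩ := exists_herm s hσ hσ2 hs
  obtain ⟨Q, hQ⟩ := exists_sqrt hσ hσ2 P hPs
  obtain ⟨q, hq, hσq⟩ := exists_card_sq hσ hσ2
  rw [Nat.card_eq_fintype_card] at hq
  have key : s.U.map (MulAut.conj Q⁻¹).toMonoidHom = GU d D q := by
    have hQ1 : (Q : Matrix (Fin d) (Fin d) D) * ((Q⁻¹ : GL (Fin d) D) : Matrix (Fin d) (Fin d) D) = 1 := Q.mul_inv
    have hQ2 : ((Q⁻¹ : GL (Fin d) D) : Matrix (Fin d) (Fin d) D) * (Q : Matrix (Fin d) (Fin d) D) = 1 := Q.inv_mul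
    have hP1 : (P : Matrix (Fin d) (Fin d) D) * ((P⁻¹ : GL (Fin d) D) : Matrix (Fin d) (Fin d) D) = 1 := P.mul_inv
    have hP2 : ((P⁻¹ : GL (Fin d) D) : Matrix (Fin d) (Fin d) D) * (P : Matrix (Fin d) (Fin d) D) = 1 := P.inv_mul
    have hst : cst σ (Q : Matrix (Fin d) (Fin d) D) * cst σ ((Q⁻¹ : GL (Fin d) D) : Matrix (Fin d) (Fin d) D) = 1 := by
      rw [← cst_mul, hQ2, cst_one]
    have hst' : cst σ ((Q⁻¹ : GL (Fin d) D) : Matrix (Fin d) (Fin d) D) * cst σ (Q : Matrix (Fin d) (Fin d) D) = 1 := by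
      rw [← cst_mul, hQ1, cst_one]
    -- the main computation
    have hmain : ∀ w : Matrix (Fin d) (Fin d) D,
        ((Q : Matrix (Fin d) (Fin d) D) * w * ((Q⁻¹ : GL (Fin d) D) : Matrix (Fin d) (Fin d) D)) *
          s ((Q : Matrix (Fin d) (Fin d) D) * w * ((Q⁻¹ : GL (Fin d) D) : Matrix (Fin d) (Fin d) D)) =
        (Q : Matrix (Fin d) (Fin d) D) * (w * cst σ w) * (cst σ (Q : Matrix (Fin d) (Fin d) D) *
          ((P⁻¹ : GL (Fin d) D) : Matrix (Fin d) (Fin d) D)) := by
      intro w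
      rw [hP, hQ, cst_mul, cst_mul]
      calc (Q : Matrix (Fin d) (Fin d) D) * w * ((Q⁻¹ : GL (Fin d) D) : Matrix (Fin d) (Fin d) D) *
            ((Q : Matrix (Fin d) (Fin d) D) * cst σ (Q : Matrix (Fin d) (Fin d) D) *
            (cst σ ((Q⁻¹ : GL (Fin d) D) : Matrix (Fin d) (Fin d) D) * (cst σ w * cst σ (Q : Matrix (Fin d) (Fin d) D)))
            * ((P⁻¹ : GL (Fin d) D) : Matrix (Fin d) (Fin d) D))
          = (Q : Matrix (Fin d) (Fin d) D) * w * (((Q⁻¹ : GL (Fin d) D) : Matrix (Fin d) (Fin d) D) *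
            (Q : Matrix (Fin d) (Fin d) D)) * (cst σ (Q : Matrix (Fin d) (Fin d) D) *
            cst σ ((Q⁻¹ : GL (Fin d) D) : Matrix (Fin d) (Fin d) D)) * cst σ w *
            (cst σ (Q : Matrix (Fin d) (Fin d) D) * ((P⁻¹ : GL (Fin d) D) : Matrix (Fin d) (Fin d) D)) := by
            simp only [mul_assoc]
        _ = _ := by rw [hQ2, hst, mul_one, mul_one]; simp only [mul_assoc]
    ext w
    rw [mem_GU_iff_cst hq hσq]
    constructor
    · rintro ⟨u, hu, rfl⟩
      have hu1 : (u : Matrix (Fin d) (Fin d) D) * s (u : Matrix (Fin d) (Fin d) D) = 1 := hu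
      have hw : ((MulAut.conj Q⁻¹).toMonoidHom u : GL (Fin d) D) = Q⁻¹ * u * Q := by
        change Q⁻¹ * u * (Q⁻¹)⁻¹ = _
        rw [inv_inv]
      rw [hw]
      set w := Q⁻¹ * u * Q with hwdef
      have hu2 : (u : Matrix (Fin d) (Fin d) D) = (Q : Matrix (Fin d) (Fin d) D) * (w : Matrix (Fin d) (Fin d) D) *
          ((Q⁻¹ : GL (Fin d) D) : Matrix (Fin d) (Fin d) D) := by
        rw [← Units.val_mul, ← Units.val_mul]
        congr 1
        rw [hwdef]; group
      rw [hu2, hmain] at hu1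
      calc (w : Matrix (Fin d) (Fin d) D) * cst σ (w : Matrix (Fin d) (Fin d) D)
          = (((Q⁻¹ : GL (Fin d) D) : Matrix (Fin d) (Fin d) D) * (Q : Matrix (Fin d) (Fin d) D)) *
            ((w : Matrix (Fin d) (Fin d) D) * cst σ (w : Matrix (Fin d) (Fin d) D)) *
            (cst σ (Q : Matrix (Fin d) (Fin d) D) * (((P⁻¹ : GL (Fin d) D) : Matrix (Fin d) (Fin d) D) *
            (P : Matrix (Fin d) (Fin d) D)) * cst σ ((Q⁻¹ : GL (Fin d) D) : Matrix (Fin d) (Fin d) D)) := by
            rw [hQ2, hP2, mul_one, hst, one_mul, mul_one]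
        _ = ((Q⁻¹ : GL (Fin d) D) : Matrix (Fin d) (Fin d) D) * ((Q : Matrix (Fin d) (Fin d) D) *
            ((w : Matrix (Fin d) (Fin d) D) * cst σ (w : Matrix (Fin d) (Fin d) D)) *
            (cst σ (Q : Matrix (Fin d) (Fin d) D) * ((P⁻¹ : GL (Fin d) D) : Matrix (Fin d) (Fin d) D))) *
            ((P : Matrix (Fin d) (Fin d) D) * cst σ ((Q⁻¹ : GL (Fin d) D) : Matrix (Fin d) (Fin d) D)) := by
            simp only [mul_assoc]
        _ = 1 := by
          rw [hu1, mul_one, hQ]
          calc ((Q⁻¹ : GL (Fin d) D) : Matrix (Fin d) (Fin d) D) * ((Q : Matrix (Fin d) (Fin d) D) *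
                cst σ (Q : Matrix (Fin d) (Fin d) D) * cst σ ((Q⁻¹ : GL (Fin d) D) : Matrix (Fin d) (Fin d) D))
              = (((Q⁻¹ : GL (Fin d) D) : Matrix (Fin d) (Fin d) D) * (Q : Matrix (Fin d) (Fin d) D)) *
                (cst σ (Q : Matrix (Fin d) (Fin d) D) *
                cst σ ((Q⁻¹ : GL (Fin d) D) : Matrix (Fin d) (Fin d) D)) := by simp only [mul_assoc]
            _ = 1 := by rw [hQ2, hst, one_mul]
    · intro hw
      refine ⟨Q * w * Q⁻¹, ?_, ?_⟩
      · change ((Q * w * Q⁻¹ : GL (Fin d) D) : Matrix (Fin d) (Fin d) D) *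
          s ((Q * w * Q⁻¹ : GL (Fin d) D) : Matrix (Fin d) (Fin d) D) = 1
        rw [Units.val_mul, Units.val_mul, hmain, hw, mul_one, ← mul_assoc, ← hQ, hP1]
      · change Q⁻¹ * (Q * w * Q⁻¹) * (Q⁻¹)⁻¹ = w
        group
  have e : ↥s.U ≃* ↥(GU d D q) :=
    (s.U.equivMapOfInjective _ (MulAut.conj Q⁻¹).injective).trans (MulEquiv.subgroupCongr key)
  exact (cf_gu hB hq d).congr e.symm

/-- Involutions of the first kind in odd characteristic. -/
theorem cf_unitary_first [Finite D] {r : ℕ} [CharP D r] (hr : r ≠ 2) (hB : BaseS r R)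
    (hs : ∀ c, s (Matrix.scalar (Fin d) c) = Matrix.scalar (Fin d) c) (hno : NoOrth s) : CF R ↥s.U := by
  have h2 : (2 : D) ≠ 0 := by
    intro h
    have h3 : r ∣ 2 := (CharP.cast_eq_zero_iff D r 2).1 (by exact_mod_cast h)
    rcases (Nat.dvd_prime Nat.prime_two).1 h3 with h4 | h4
    · exact CharP.char_ne_one D r h4
    · exact hr h4
  obtain ⟨P, hPs, hP⟩ := exists_first s hs
  obtain ⟨e⟩ := exists_equiv_first s hP
  refine CF.congr ?_ e.symm
  have hnd : ∀ u, (∀ v, formOf (P : Matrix (Fin d) (Fin d) D) u v = 0) → u = 0 := by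
    intro u hu
    have h1 : u ᵥ* (P : Matrix (Fin d) (Fin d) D) = 0 := by
      funext j
      have h3 := hu (Pi.single j 1)
      rw [formOf_apply, Matrix.dotProduct_mulVec, dotProduct_single, mul_one] at h3
      exact h3
    have h3 : (u ᵥ* (P : Matrix (Fin d) (Fin d) D)) ᵥ* ((P⁻¹ : GL (Fin d) D) : Matrix (Fin d) (Fin d) D) = 0 := by
      rw [h1, Matrix.zero_vecMul]
    rwa [Matrix.vecMul_vecMul, Units.mul_inv, Matrix.vecMul_one] at h3
  have hsw : ∀ x y, formOf (P : Matrix (Fin d) (Fin d) D)ᵀ x y = formOf (P : Matrix (Fin d) (Fin d) D) y x := by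
    intro x y
    rw [formOf_apply, formOf_apply, Matrix.mulVec_transpose, dotProduct_comm, Matrix.dotProduct_mulVec]
  rcases hPs with hPs | hPs
  · -- symmetric
    exact absurd hPs (not_symm_of_noOrth s h2 hs hno hP)
  · -- alternating
    refine cf_bilin hB (B := formOf (P : Matrix (Fin d) (Fin d) D)) ?_ hnd
    intro x
    have h1 := hsw x x
    rw [hPs, formOf_apply, formOf_apply, Matrix.neg_mulVec, dotProduct_neg] at h1
    rw [formOf_apply]
    have h3 : 2 * (x ⬝ᵥ (P : Matrix (Fin d) (Fin d) D) *ᵥ x) = 0 := by linear_combination -h1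
    exact (mul_eq_zero.1 h3).resolve_left h2

/-- All involutions of matrix rings in odd characteristic. -/
theorem cf_unitary_matrix [Finite D] {r : ℕ} [CharP D r] (hr : r ≠ 2) (hB : BaseS r R) (hno : NoOrth s) : CF R ↥s.U := by
  have := Fintype.ofFinite D
  by_cases h : ∃ z ∈ Subring.center (Matrix (Fin d) (Fin d) D), s z ≠ z
  · exact cf_unitary_second s hB h
  · push Not at h
    exact cf_unitary_first s hr hB (fun c => h _ (scalar_mem_center c)) hno

end Matrix

section Semisimple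

variable {R : ∀ (S : Type u) [Group S], Prop} {r : ℕ}

theorem cf_unitary_matrix' {D : Type} [DivisionRing D] [Finite D] [CharP D r] {d : ℕ} [NeZero d]
    (hr : r ≠ 2) (hB : BaseS r R) (s : RInv (Matrix (Fin d) (Fin d) D)) (hno : NoOrth s) :
    CF R ↥s.U := by
  let _ : Field D := littleWedderburn D
  exact cf_unitary_matrix s hr hB hno

theorem cf_units_matrix {D : Type} [DivisionRing D] [Finite D] [CharP D r] (hB : BaseS r R) (d : ℕ) :
    CF R (Matrix (Fin d) (Fin d) D)ˣ := by
  let _ : Field D := littleWedderburn D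
  exact cf_gl (F := D) hB d

/-- The group of units of a finite semisimple ring. -/
theorem cf_units (hr : r.Prime) (hB : BaseS r R) (E : Type) [Ring E] [Finite E] [IsSemisimpleRing E]
    [CharP E r] : CF R Eˣ := by
  obtain ⟨n, D, d, hD, hd, ⟨e⟩⟩ := IsSemisimpleRing.exists_ringEquiv_pi_matrix_divisionRing E
  have hfin : Finite (∀ i, Matrix (Fin (d i)) (Fin (d i)) (D i)) := Finite.of_equiv E e.toEquiv
  have hfin2 : ∀ i, Finite (Matrix (Fin (d i)) (Fin (d i)) (D i)) := fun i =>
    Finite.of_surjective (fun x : ∀ i, Matrix (Fin (d i)) (Fin (d i)) (D i) => x i)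
      (fun a => ⟨Pi.single i a, by simp⟩)
  have hfin3 : ∀ i, Finite (D i) := fun i =>
    Finite.of_injective (fun c : D i => Matrix.scalar (Fin (d i)) c) (fun a b h => by
      have : Nonempty (Fin (d i)) := ⟨0⟩
      exact Matrix.scalar_inj.mp h)
  have h1 : CF R (∀ i, (Matrix (Fin (d i)) (Fin (d i)) (D i))ˣ) :=
    CF.pi fun i => by
      have := charP_factor hr e i
      exact cf_units_matrix hB (d i)
  exact h1.congr (MulEquiv.piUnits.symm.trans (Units.mapEquiv e.symm.toMulEquiv))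

/-- **The unitary group of a finite semisimple ring with involution, odd characteristic.** -/
theorem cf_unitary (hr : r.Prime) (hr2 : r ≠ 2) (hB : BaseS r R) {E : Type} [Ring E] [Finite E]
    [IsSemisimpleRing E] [CharP E r] (s : RInv E) (hno : NoOrth s) : CF R ↥s.U := by
  classical
  obtain ⟨n, D, d, hD, hd, ⟨e⟩⟩ := IsSemisimpleRing.exists_ringEquiv_pi_matrix_divisionRing E
  have hfin : Finite (∀ i, Matrix (Fin (d i)) (Fin (d i)) (D i)) := Finite.of_equiv E e.toEquiv
  have hfin2 : ∀ i, Finite (Matrix (Fin (d i)) (Fin (d i)) (D i)) := fun i =>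
    Finite.of_surjective (fun x : ∀ i, Matrix (Fin (d i)) (Fin (d i)) (D i) => x i)
      (fun a => ⟨Pi.single i a, by simp⟩)
  have hne : ∀ i, Nonempty (Fin (d i)) := fun i => ⟨0⟩
  have hfin3 : ∀ i, Finite (D i) := fun i =>
    Finite.of_injective (fun c : D i => Matrix.scalar (Fin (d i)) c) (fun a b h => Matrix.scalar_inj.mp h)
  have key : CF R ↥(s.congr e).U := by
    refine cf_unitary_pi (s.congr e) (fun i => ?_) fun i hi => ?_
    · have := charP_factor hr e i
      exact cf_units_matrix hB (d i)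
    · have := charP_factor hr e i
      exact cf_unitary_matrix' hr2 hB _ ((hno.congr e).factor i hi)
  exact key.congr (s.congrU e).symm

end Semisimple

end Cfsg.Agent.H340.Sy
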