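import Cfsg.Agent.H340.OddLie
import Cfsg.Agent.H340.Sy.Unit
/-!
# Centralizers of involutory automorphisms without orthogonal composition factors (helper340)
-/

set_option autoImplicit false
set_option linter.unusedSectionVars false

namespace Cfsg.Agent.H340.Sy

open Subgroup Cfsg Cfsg.Agent.BpLin Cfsg.Agent.BpCl

universe u v w

variable {P : ∀ (S : Type u) [Group S], Prop} {r : ℕ}

section Ring

variable {A : Type} [Ring A]

theorem cf_fixU (hr : r.Prime) (hr2 : r ≠ 2) (hB : BaseS r P) [Finite A] [IsSemisimpleRing A] [CharP A r]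
    (τ : A ≃+* A) (hτ : ∀ a, τ (τ a) = a) : CF P ↥(fixU τ) := by
  have h1 : IsSemisimpleRing ↥(fixRing τ) := isSemisimpleRing_fixed τ hτ (isUnit_two hr hr2)
  have h2 : CharP ↥(fixRing τ) r := charP_subring _
  exact (cf_units hr hB ↥(fixRing τ)).congr (fixUEquiv τ)

theorem cf_fixUnitary (hr : r.Prime) (hr2 : r ≠ 2) (hB : BaseS r P) [Finite A] [IsSemisimpleRing A] [CharP A r]
    (τ : A ≃+* A) (hτ : ∀ a, τ (τ a) = a) (s : RInv A) (hs : ∀ a, τ (s a) = s (τ a))
    (hno : NoOrth (fixInv τ s hs)) : CF P ↥(s.U ⊓ fixU τ) := by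
  have h1 : IsSemisimpleRing ↥(fixRing τ) := isSemisimpleRing_fixed τ hτ (isUnit_two hr hr2)
  have h2 : CharP ↥(fixRing τ) r := charP_subring _
  have h3 := cf_unitary hr hr2 hB (fixInv τ s hs) hno
  have h4 : ((fixInv τ s hs).U.map ((fixU τ).subtype.comp (fixUEquiv τ).toMonoidHom)) = s.U ⊓ fixU τ := by
    ext u
    constructor
    · rintro ⟨v, hv, rfl⟩
      have h5 : (v : ↥(fixRing τ)) * (fixInv τ s hs) v = 1 := hv
      exact ⟨congrArg Subtype.val h5, (fixUEquiv τ v).2⟩
    · rintro ⟨hu, hu'⟩
      refine ⟨(fixUEquiv τ).symm ⟨u, hu'⟩, ?_, ?_⟩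
      · exact Subtype.ext hu
      · change ((fixUEquiv τ ((fixUEquiv τ).symm ⟨u, hu'⟩) : ↥(fixU τ)) : Aˣ) = u
        rw [MulEquiv.apply_symm_apply]
  have hinj : Function.Injective ((fixU τ).subtype.comp (fixUEquiv τ).toMonoidHom) :=
    (fixU τ).subtype_injective.comp (fixUEquiv τ).injective
  exact h3.congr (((fixInv τ s hs).U.equivMapOfInjective _ hinj).trans (MulEquiv.subgroupCongr h4))

end Ring


section Alt

open Cfsg.Agent.ClassicalGeometry.SympAutSemi (perm_apply_inv_self perm_inv_apply_self)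

variable {F V : Type} [Field F] [AddCommGroup V]
  [Module F V] [Module.Finite F V] {B : LinearMap.BilinForm F V} {ε : F}

theorem noOrth_alt (hnd : ∀ u, (∀ v, B u v = 0) → u = 0) (hε : ε * ε = 1)
    (hB : ∀ u v, B u v = ε * B v u) (halt : ∀ v, B v v = 0) (h2 : (2 : F) ≠ 0)
    {φ : F ≃+* F} {g : Equiv.Perm V} {l : F}
    (hg : SemiIso (fun u v => B u v) φ l g) {a : F} (ha : a ≠ 0) (hga : ∀ v, g (g v) = a • v) :
    NoOrth (fixInv (semiEnd hg.toSemi) (adjI hnd hε hB) (semiEnd_adjI hnd hε hB hg)) := by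
  have hneg : ∀ u v, B u v = - B v u := fun u v => by
    have h3 : LinearMap.IsAlt B := halt
    have h4 := h3.neg u v
    linear_combination -h4
  intro e he hs htr
  obtain ⟨E, hE⟩ : ∃ E : Module.End F V, E = e.1 := ⟨_, rfl⟩
  have hEE : ∀ v, E (E v) = E v := fun v => by
    rw [hE]
    exact LinearMap.congr_fun (congrArg Subtype.val he) v
  have hsE : ∀ u v, B (E u) v = B u (E v) := fun u v => by
    have h3 : adjI hnd hε hB E = E := by rw [hE]; exact congrArg Subtype.val hs
    conv_lhs => rw [← h3]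
    exact adjI_spec hnd hε hB E u v
  -- the fixed ring is orthogonal on the image
  have h3 : ∀ a' : ↥(fixRing (semiEnd hg.toSemi)), ∀ y, E y = y → B ((a' : Module.End F V) y) y = 0 := by
    intro a' y hy
    have h4 : adjI hnd hε hB (E * (a' : Module.End F V) * E) = E * (a' : Module.End F V) * E := by
      rw [hE]; exact congrArg Subtype.val (htr a')
    have h5 : B (adjI hnd hε hB (E * (a' : Module.End F V) * E) y) y = B y ((E * (a' : Module.End F V) * E) y) :=
      adjI_spec hnd hε hB _ y y
    rw [h4] at h5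
    have h6 : (E * (a' : Module.End F V) * E) y = E ((a' : Module.End F V) y) := by
      change E ((a' : Module.End F V) (E y)) = _
      rw [hy]
    rw [h6, hsE, hy, ← hsE, hy, hneg y] at h5
    have h7 : 2 * B ((a' : Module.End F V) y) y = 0 := by linear_combination h5
    exact (mul_eq_zero.1 h7).resolve_left h2
  have h4 : ∀ b : Module.End F V, ∀ y, E y = y → B (b y) y + B (g (b (g⁻¹ y))) y = 0 := by
    intro b y hy
    have hm : b + semiEnd hg.toSemi b ∈ fixRing (semiEnd hg.toSemi) := by
      rw [mem_fixRing, map_add, semiEnd_semiEnd hg.toSemi ha hga, add_comm]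
    have h5 := h3 ⟨_, hm⟩ y hy
    change B (b y + g (b (g⁻¹ y))) y = 0 at h5
    rwa [map_add, LinearMap.add_apply] at h5
  have hg0 : g 0 = 0 := by
    have h5 := hg.smul 0 0
    rwa [map_zero, zero_smul, zero_smul] at h5
  have hform : ∀ u v, B (g u) (g v) = l * φ (B u v) := hg.form
  have hB1 : ∀ (c : F) u v, B (c • u) v = c * B u v := fun c u v => by
    rw [map_smul, LinearMap.smul_apply, smul_eq_mul]
  have hB2 : ∀ (c : F) u v, B u (c • v) = c * B u v := fun c u v => by
    rw [map_smul, smul_eq_mul]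
  -- the vectors of the image are eigenvectors
  have key : ∀ y, E y = y → y ≠ 0 → ∃ c : F, g⁻¹ y = c • y ∧ l * φ (c * c) = -1 ∧ ∀ d, φ d = d := by
    intro y hy hy0
    have hy' : ∃ x, B x y = 1 := by
      by_contra hcon
      push Not at hcon
      apply hy0
      apply hnd
      intro v
      by_contra hv
      refine hcon ((-(B y v)⁻¹) • v) ?_
      rw [map_smul, LinearMap.smul_apply, smul_eq_mul, hneg v y, neg_mul_neg, inv_mul_cancel₀ hv]
    obtain ⟨x, hx⟩ := hy'
    have hmem : y ∈ Submodule.span F {g⁻¹ y} := by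
      by_contra hcon
      obtain ⟨f, hf, hf'⟩ := Submodule.exists_le_ker_of_notMem hcon
      have h5 : f (g⁻¹ y) = 0 := hf' (Submodule.mem_span_singleton_self _)
      have h6 := h4 (LinearMap.smulRight f x) y hy
      rw [LinearMap.smulRight_apply, LinearMap.smulRight_apply, h5, zero_smul, hg0, map_zero, LinearMap.zero_apply,
        add_zero, map_smul, LinearMap.smul_apply, hx, smul_eq_mul, mul_one] at h6
      exact hf h6
    obtain ⟨c', hc'⟩ := Submodule.mem_span_singleton.1 hmem
    have hc0 : c' ≠ 0 := by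
      rintro rfl
      rw [zero_smul] at hc'
      exact hy0 hc'.symm
    have hcy : g⁻¹ y = c'⁻¹ • y := by
      conv_rhs => rw [← hc']
      rw [smul_smul, inv_mul_cancel₀ hc0, one_smul]
    have hyg : y = g (c'⁻¹ • y) := by rw [← hcy, perm_apply_inv_self]
    obtain ⟨f, hf⟩ : ∃ f : V →ₗ[F] F, f y = 1 := by
      obtain ⟨f, hf, -⟩ := Submodule.exists_le_ker_of_notMem (p := (⊥ : Submodule F V)) (v := y)
        (fun h => hy0 ((Submodule.mem_bot F).1 h))
      exact ⟨(f y)⁻¹ • f, by rw [LinearMap.smul_apply, smul_eq_mul, inv_mul_cancel₀ hf]⟩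
    have h5 : ∀ d : F, d + l * φ (c'⁻¹ * (c'⁻¹ * d)) = 0 := by
      intro d
      have h6 := h4 (LinearMap.smulRight f (d • x)) y hy
      rw [LinearMap.smulRight_apply, LinearMap.smulRight_apply, hcy, map_smul f, hf, one_smul, smul_eq_mul, mul_one]
        at h6
      have h7 : B (g (c'⁻¹ • d • x)) y = l * φ (c'⁻¹ * (c'⁻¹ * d)) := by
        conv_lhs => rw [hyg]
        rw [hform, hB1, hB2, hB1, hx, mul_one]
      rw [h7, map_smul, LinearMap.smul_apply, hx, smul_eq_mul, mul_one] at h6
      exact h6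
    have h6 : l * φ (c'⁻¹ * c'⁻¹) = -1 := by
      have h7 := h5 1
      rw [mul_one] at h7
      linear_combination h7
    refine ⟨c'⁻¹, hcy, h6, fun d => ?_⟩
    have h7 := h5 d
    rw [← mul_assoc, map_mul, ← mul_assoc, h6] at h7
    linear_combination -h7
  -- conclusion
  have hzero : ∀ y, E y = y → y = 0 := by
    intro y hy
    by_contra hy0
    apply hy0
    apply hnd
    intro v
    have h5 : B y v = B y (E v) := by rw [← hsE, hy]
    rw [h5]
    by_contra hne
    set x := E v with hx
    have hxE : E x = x := hEE v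
    have hx0 : x ≠ 0 := by rintro h; rw [h, map_zero] at hne; exact hne rfl
    have hxy0 : y + x ≠ 0 := by
      intro h
      apply hne
      have h6 : B y (y + x) = 0 := by rw [h, map_zero]
      rwa [map_add, halt, zero_add] at h6
    obtain ⟨c1, h61, h62, hφ⟩ := key y hy hy0
    obtain ⟨c2, h71, -⟩ := key x hxE hx0
    obtain ⟨c3, h81, -⟩ := key (y + x) (by rw [map_add, hy, hxE]) hxy0
    rw [semi_inv_add hg.toSemi, h61, h71] at h81
    have h9 : c2 = c3 := by
      have h10 := congrArg (fun w => B y w) h81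
      simp only [map_add, map_smul, halt, smul_add, smul_eq_mul, mul_zero, zero_add] at h10
      exact mul_right_cancel₀ hne h10
    have h10 : c1 = c3 := by
      have h10 := congrArg (fun w => B w x) h81
      simp only [map_add, map_smul, LinearMap.add_apply, LinearMap.smul_apply, halt, smul_add, smul_eq_mul, mul_zero,
        add_zero] at h10
      exact mul_right_cancel₀ hne h10
    have h11 : B y x = l * φ (c1 * (c1 * B y x)) := by
      have h12 := hform (g⁻¹ y) (g⁻¹ x)
      rw [perm_apply_inv_self, perm_apply_inv_self, h61, h71, h9, ← h10, hB1, hB2] at h12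
      exact h12
    rw [← mul_assoc, map_mul, ← mul_assoc, h62, hφ] at h11
    have h12 : 2 * B y x = 0 := by linear_combination h11
    exact hne ((mul_eq_zero.1 h12).resolve_left h2)
  apply Subtype.ext
  change e.1 = 0
  rw [← hE]
  apply LinearMap.ext
  intro v
  rw [hzero (E v) (hEE v)]
  rfl

end Alt

section Main

open Cfsg.Agent.ClassicalGeometry.SympAutSemi (perm_apply_inv_self perm_inv_apply_self)

variable {F V : Type} [Field F] [Finite F] [CharP F r] [AddCommGroup V]
  [Module F V] [Module.Finite F V] {B : LinearMap.BilinForm F V} {ε : F}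

/-- **Isometries commuting with a semisimilitude of scalar square.** -/
theorem cf_iso_CL (hr : r.Prime) (hr2 : r ≠ 2) (hP : BaseS r P) [Nontrivial V]
    (hnd : ∀ u, (∀ v, B u v = 0) → u = 0) (halt : ∀ v, B v v = 0) (hε : ε * ε = 1)
    (hB : ∀ u v, B u v = ε * B v u) {φ : F ≃+* F} {g : Equiv.Perm V} {l : F}
    (hg : SemiIso (fun u v => B u v) φ l g) {a : F} (ha : a ≠ 0) (hga : ∀ v, g (g v) = a • v) :
    CF P ↥(Iso (fun u v => B u v) ⊓ CL F g) := by
  have hV : Finite V := Module.finite_of_finite F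
  have hE : Finite (Module.End F V) := Finite.of_injective (fun T : Module.End F V => (T : V → V)) DFunLike.coe_injective
  have hss : IsSemisimpleRing (Module.End F V) := IsSemisimpleRing.moduleEnd F V
  have hch : CharP (Module.End F V) r :=
    charP_of_injective_algebraMap (algebraMap F (Module.End F V)).injective r
  let s := adjI hnd hε hB
  let τ := semiEnd hg.toSemi
  have h1 : CF P ↥(s.U ⊓ fixU τ) := cf_fixUnitary hr hr2 hP τ (semiEnd_semiEnd hg.toSemi ha hga) s
    (semiEnd_adjI hnd hε hB hg) (noOrth_alt hnd hε hB halt (two_ne_zero_of_charP hr hr2) hg ha hga)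
  let e : LinearMap.GeneralLinearGroup F V ≃* (V ≃ₗ[F] V) := LinearMap.GeneralLinearGroup.generalLinearEquiv F V
  have h2 : (s.U ⊓ fixU τ).map e.toMonoidHom = Iso (fun u v => B u v) ⊓ CL F g := by
    ext h
    rw [Subgroup.mem_map_equiv]
    have he : ∀ v, ((e.symm h : LinearMap.GeneralLinearGroup F V) : Module.End F V) v = h v := fun _ => rfl
    constructor
    · rintro ⟨h3, h4⟩
      refine ⟨fun u v => ?_, fun v => ?_⟩
      · have h5 := (mem_adjU hnd hε hB _).1 h3 u v
        exact h5
      · have h5 := LinearMap.congr_fun (mem_fixU.1 h4) (g v)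
        rw [semiEnd_apply, he, he, perm_inv_apply_self] at h5
        exact h5.symm
    · rintro ⟨h3, h4⟩
      refine ⟨(mem_adjU hnd hε hB _).2 h3, mem_fixU.2 ?_⟩
      apply LinearMap.ext
      intro v
      rw [semiEnd_apply, he, he, ← mem_CL.1 h4, perm_apply_inv_self]
  rw [← h2]
  exact h1.congr ((s.U ⊓ fixU τ).equivMapOfInjective e.toMonoidHom e.injective)

end Main

end Cfsg.Agent.H340.Sy
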